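import Groth.Prelude.Def_KLinDR
import Groth.Prelude.Def_FrobAlg
import Groth.Agent.DeRhamSh.K853.CxAff
import Groth.Agent.Dual.H375.ExtRestr
import Groth.Agent.Pic13.H11.Cls

/-!
# The additive form of the degeneration of the Hodge to de Rham spectral sequence

`exists_addEquiv`: from the dimension form (`S19853`, `S19854`) to the additive form (`S16741`, `S16743`).
-/

set_option autoImplicit false
universe u

open CategoryTheory CategoryTheory.Limits AlgebraicGeometry

namespace K527.Row16741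

open Groth.Agent.Pic13.H11.Cls Groth.Agent.Fga.PicMon

variable (K : Type u) [Field K]
    (X : Scheme.{u}) [X.Over (Spec (CommRingCat.of K))] [QuasiSeparated (X ↘ Spec (CommRingCat.of K))]
    (D : DeRhamSh.OmegaCx (X ↘ Spec (CommRingCat.of K)))
    [HasDerivedCategory.{u} (Sheaf (Opens.grothendieckTopology ↥X) AddCommGrpCat.{u})]
    (Om : ℕ → X.Modules) (hOm : ∀ a, ExtPow.IsExtPow a (Omega.sheaf (X ↘ Spec (CommRingCat.of K))) (Om a))
    (l : ℕ)

include hOm in
theorem exists_addEquiv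
    (hS : ∀ h : KLinDR.TermwiseLinear (Coh.toGlobal (X ↘ Spec (CommRingCat.of K))) D.K D.term D.iso,
      Module.Finite K (KLinDR.HdR (Coh.toGlobal (X ↘ Spec (CommRingCat.of K))) D h l) ∧
      Module.finrank K (KLinDR.HdR (Coh.toGlobal (X ↘ Spec (CommRingCat.of K))) D h l) =
        ∑ a ∈ Finset.range (l + 1), Module.finrank K (Coh.HH X (D.term a) (l - a))) :
    Nonempty (DeRhamSh.HdR D (l : ℤ) ≃+
      (Fin (∑ a ∈ Finset.range (l + 1), Module.finrank K (Coh.HH X (Om a) (l - a))) → K)) := by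
  have h := K853.CxAff.termwiseLinear (X ↘ Spec (CommRingCat.of K)) D
  obtain ⟨h1, h2⟩ := hS h
  have h3 : ∑ a ∈ Finset.range (l + 1), Module.finrank K (Coh.HH X (Om a) (l - a)) =
      ∑ a ∈ Finset.range (l + 1), Module.finrank K (Coh.HH X (D.term a) (l - a)) := by
    refine Finset.sum_congr rfl fun a _ => ?_
    obtain ⟨e⟩ := Groth.Agent.Dual.H375.ExtRestr.nonempty_iso (Iso.refl _) (hOm a) (D.isExtPow a)
    rw [← h_mc, ← h_mc, mc_eq e]
  rw [h3, ← h2]
  have e1 : KLinDR.HdR (Coh.toGlobal (X ↘ Spec (CommRingCat.of K))) D h l ≃+ DeRhamSh.HdR D (l : ℤ) :=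
    KLinDR.toHdRU D h l ⊤
  have e2 := (Module.finBasis K (KLinDR.HdR (Coh.toGlobal (X ↘ Spec (CommRingCat.of K))) D h l)).equivFun.toAddEquiv
  exact ⟨e1.symm.trans e2⟩

end K527.Row16741
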